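import Groth.Agent.Krr.H462.GrMap
import Groth.Agent.Krr.H493.ChMul
import Groth.Agent.Krr.H493.ChBij

/-!
# Abstract Grothendieck–Riemann–Roch: from Adams–Riemann–Roch to the Chern character

`abstract_grr`: let `f : KX →+ KY` be additive with `f (F^k) ⊆ ℚF^{k+δ}` and suppose that for one
`j ≥ 2` one has `ψ^j (f x) = f (μ ψ^j x) / M` rationally, where `τ · ch μ = M j^δ · ψ_G^j(τ)` for
`τ ∈ ℚGr KX` with constant term `1`.  Then `ch (f x) = f_G (τ · ch x)`.
-/

set_option autoImplicit false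
universe v w

open scoped TensorProduct
open LambdaRing KGr

namespace Groth.Agent.Krr.H462.AbsGRR

open Groth.Agent.Books.Lambda1
open Groth.Agent.Books.Lambda2
open Groth.Agent.Krr.H500.GrK
open Groth.Agent.Krr.H500.GrChern
open Groth.Agent.Krr.H462.GrMap
open Groth.Agent.Krr.H493.ChK Groth.Agent.Krr.H493.ChBij Groth.Agent.Krr.H493.ChMul
open Groth.Agent.Krr.H493.AdamsDiff

section one

variable {K : Type v} [CommRing K] [LambdaRing.LambdaOps K] (P : LambdaRing.PosStructure K)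
  (hK : HasSplitting K P)

lemma degProj_ch (m n : ℕ) (x : K) :
    degProj P (m : ℤ) (ch P hK n x) = if n = m then ch P hK n x else 0 := by
  rw [ch_apply, map_smul, degProj_grK _ _ (mem_QF_of_mem (by simpa using dl_mem P hK n x))]
  by_cases h : n = m
  · rw [if_pos h, if_pos (by exact_mod_cast h)]
  · rw [if_neg h, if_neg (by exact_mod_cast h), smul_zero]

lemma degProj_chHom {d : ℕ} (hd : gammaFiltration P (d + 1) = ⊥) (m : ℕ) (x : K) :
    degProj P (m : ℤ) (chHom P hK d x) = ch P hK m x := by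
  by_cases hm : m ≤ d
  · rw [chHom_eq_sum, map_sum, Finset.sum_eq_single m]
    · rw [degProj_ch, if_pos rfl]
    · intro n _ hn
      rw [degProj_ch, if_neg hn]
    · intro h
      exact absurd (Finset.mem_range.mpr (by omega)) h
  · rw [degProj_eq_zero_of_lt hd (by omega), ch_eq_zero_of_lt P hK hd m (by omega)]

lemma ch_of_mem_QF (n : ℕ) (x : K) (hx : x ∈ QF P n) : ch P hK n x = grK P (n : ℤ) x := by
  obtain ⟨N, hN, hx⟩ := hx
  apply gr_nsmul_cancel hN
  rw [← map_nsmul, ← grK_natCast_mul, ← ch_of_mem P hK n _ hx, nsmul_eq_mul]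

/-- An element whose Chern character vanishes in degrees `< n` lies in `ℚF^n`. -/
lemma mem_QF_of_ch_eq_zero (n : ℕ) (x : K) (hx : ∀ m < n, ch P hK m x = 0) : x ∈ QF P n := by
  induction n with
  | zero => exact mem_QF_zero x
  | succ n ih =>
    have hxn := ih fun m hm => hx m (by omega)
    rw [← grK_eq_zero_iff P hxn, ← ch_of_mem_QF P hK n x hxn]
    exact hx n (by omega)

lemma chHom_adams {d : ℕ} (hd : gammaFiltration P (d + 1) = ⊥) (j : ℕ) (x : K) :
    chHom P hK d (adams P j x) = scal P (j : ℚ) (chHom P hK d x) := by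
  apply ext_degProj hd
  intro n _
  rw [degProj_scal, degProj_chHom P hK hd, degProj_chHom P hK hd, ch_adams, Int.toNat_natCast]

end one

section unit

variable {K : Type v} [CommRing K] [LambdaRing.LambdaOps K] {P : LambdaRing.PosStructure K}

/-- Elements without components in degrees `< n`. -/
def Pos (n : ℕ) (z : Gr P) : Prop := ∀ m < n, degProj P (m : ℤ) z = 0

lemma Pos.mul {n m : ℕ} {z w : Gr P} (hz : Pos n z) (hw : Pos m w) : Pos (n + m) (z * w) := by
  intro k hk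
  rw [degProj_mul]
  refine Finset.sum_eq_zero fun p hp => ?_
  rw [Finset.mem_antidiagonal] at hp
  by_cases h : p.1 < n
  · rw [hz _ h, zero_mul]
  · rw [hw _ (by omega), mul_zero]

lemma Pos.pow {n : ℕ} {z : Gr P} (hz : Pos n z) (k : ℕ) : Pos (n * k) (z ^ k) := by
  induction k with
  | zero =>
    intro m hm
    omega
  | succ k ih =>
    rw [pow_succ, Nat.mul_succ]
    exact ih.mul hz

/-- An element with constant term `1` is a unit (when `F^{d+1} = 0`). -/
lemma isUnit_of_degProj_zero {d : ℕ} (hd : gammaFiltration P (d + 1) = ⊥) {τ : Gr P}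
    (h : degProj P 0 τ = 1) : IsUnit τ := by
  have h1 : Pos 1 (1 - τ) := by
    intro m hm
    have : m = 0 := by omega
    subst this
    rw [map_sub, degProj_one, if_pos (by simp)]
    have : degProj P ((0 : ℕ) : ℤ) τ = 1 := by exact_mod_cast h
    rw [this, sub_self]
  have h2 : (1 - τ) ^ (d + 1) = 0 := by
    apply ext_degProj hd
    intro n hn
    rw [map_zero]
    exact h1.pow (d + 1) n (by omega)
  have h3 : IsNilpotent (1 - τ) := ⟨d + 1, h2⟩
  have h4 := h3.isUnit_one_sub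
  rwa [sub_sub_cancel] at h4

end unit

section main

variable {KX KY : Type v} [CommRing KX] [LambdaRing.LambdaOps KX] [CommRing KY]
  [LambdaRing.LambdaOps KY] {PX : LambdaRing.PosStructure KX} {PY : LambdaRing.PosStructure KY}
  (hKX : HasSplitting KX PX) (hKY : HasSplitting KY PY) {dX dY : ℕ}
  (hdX : gammaFiltration PX (dX + 1) = ⊥) (hdY : gammaFiltration PY (dY + 1) = ⊥)
  (f : KX →+ KY) (δ : ℤ)

include hKX hKY hdX hdY in
lemma homog_case
    (j : ℕ) (hj : 2 ≤ j) (μ : KX) (M : ℕ) (hM : 1 ≤ M)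
    (hRR : ∀ x : KX, (M : ℤ) • ((1 : ℚ) ⊗ₜ[ℤ] adams PY j (f x)) =
      (1 : ℚ) ⊗ₜ[ℤ] f (μ * adams PX j x))
    (τ : Gr PX) (hτ0 : degProj PX 0 τ = 1)
    (hτ : τ * chHom PX hKX dX μ = ((M : ℚ) * (j : ℚ) ^ δ) • scal PX (j : ℚ) τ)
    (fG : Gr PX →ₗ[ℚ] Gr PY) (hfG : IsGrPush PX PY f δ fG.toAddMonoidHom)
    (hf : ∀ (k : ℕ) (x : KX), x ∈ gammaFiltration PX k → f x ∈ QF PY ((k : ℤ) + δ).toNat)
    (n : ℕ) (x : KX) (hx : degProj PX (n : ℤ) (τ * chHom PX hKX dX x) = τ * chHom PX hKX dX x) :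
    chHom PY hKY dY (f x) = fG (τ * chHom PX hKX dX x) := by
  set h := τ * chHom PX hKX dX x with hh
  have hτu := isUnit_of_degProj_zero hdX hτ0
  obtain ⟨τ', hττ'⟩ := hτu.exists_right_inv
  have hM0 : (M : ℚ) ≠ 0 := by positivity
  have hj0 : (j : ℚ) ≠ 0 := by positivity
  -- the constant term of the inverse
  have hτ'0 : degProj PX 0 τ' = 1 := by
    have h1 := congrArg (degProj PX ((0 : ℕ) : ℤ)) hττ'
    rw [degProj_mul, degProj_one, if_pos (by simp)] at h1
    simp only [Finset.Nat.antidiagonal_zero, Finset.sum_singleton, Nat.cast_zero] at h1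
    rwa [hτ0, one_mul] at h1
  have hch : chHom PX hKX dX x = τ' * h := by
    rw [hh, ← mul_assoc, mul_comm τ' τ, hττ', one_mul]
  have hdeg : ∀ m : ℕ, m ≠ n → degProj PX (m : ℤ) h = 0 := by
    intro m hm
    rw [← hx]
    exact degProj_of_ne (by exact_mod_cast hm.symm) _
  -- components of the Chern character of `x`
  have hlow : ∀ m < n, ch PX hKX m x = 0 := by
    intro m hm
    rw [← degProj_chHom PX hKX hdX, hch, degProj_mul]
    refine Finset.sum_eq_zero fun p hp => ?_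
    rw [Finset.mem_antidiagonal] at hp
    rw [hdeg _ (by omega), mul_zero]
  have hn : ch PX hKX n x = h := by
    rw [← degProj_chHom PX hKX hdX, hch, degProj_mul, Finset.sum_eq_single (0, n)]
    · rw [Nat.cast_zero, hτ'0, one_mul, hx]
    · rintro ⟨a, b⟩ hab hne
      rw [Finset.mem_antidiagonal] at hab
      dsimp only at hab ⊢
      rw [hdeg b, mul_zero]
      rintro rfl
      apply hne
      have : a = 0 := by omega
      rw [this]
    · intro h0
      exact absurd (Finset.mem_antidiagonal.2 (by simp)) h0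
  have hxn : x ∈ QF PX n := mem_QF_of_ch_eq_zero PX hKX n x hlow
  have hgr : grK PX (n : ℤ) x = h := by rw [← ch_of_mem_QF PX hKX n x hxn, hn]
  -- Adams eigenvector
  have key1 : chHom PX hKX dX (μ * adams PX j x) =
      ((M : ℚ) * (j : ℚ) ^ (δ + n)) • chHom PX hKX dX x := by
    have h1 : τ * chHom PX hKX dX (μ * adams PX j x) =
        ((M : ℚ) * (j : ℚ) ^ (δ + n)) • h := by
      rw [chHom_mul PX hKX hdX, ← mul_assoc, hτ, chHom_adams PX hKX hdX, smul_mul_assoc, ← map_mul,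
        ← hh, ← hx, scal_degProj, hx, smul_smul, Int.toNat_natCast, mul_assoc,
        zpow_add₀ hj0, zpow_natCast]
    have h2 : τ' * (τ * chHom PX hKX dX (μ * adams PX j x)) =
        chHom PX hKX dX (μ * adams PX j x) := by
      rw [← mul_assoc, mul_comm τ' τ, hττ', one_mul]
    rw [← h2, h1, mul_smul_comm, ← hch]
  have key2 : (1 : ℚ) ⊗ₜ[ℤ] (μ * adams PX j x) =
      ((M : ℚ) * (j : ℚ) ^ (δ + n)) ⊗ₜ[ℤ] x := by
    apply Phi_injective PX hKX dX hdX
    rw [Phi_tmul, Phi_tmul, one_smul, key1]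
  have key3 : (1 : ℚ) ⊗ₜ[ℤ] f (μ * adams PX j x) =
      ((M : ℚ) * (j : ℚ) ^ (δ + n)) ⊗ₜ[ℤ] f x := by
    have := congrArg (LinearMap.lTensor ℚ f.toIntLinearMap) key2
    rwa [LinearMap.lTensor_tmul, LinearMap.lTensor_tmul] at this
  have key4 : (1 : ℚ) ⊗ₜ[ℤ] adams PY j (f x) = ((j : ℚ) ^ (δ + n)) ⊗ₜ[ℤ] f x := by
    have h1 := hRR x
    rw [key3] at h1
    have h2 := congrArg (fun z => ((M : ℚ)⁻¹) • z) h1
    simp only [TensorProduct.smul_tmul', smul_eq_mul] at h2
    rw [← mul_assoc, inv_mul_cancel₀ hM0, one_mul] at h2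
    rw [← h2]
    have h3 : (M : ℚ)⁻¹ * (M : ℤ) • (1 : ℚ) = 1 := by
      rw [zsmul_eq_mul, mul_one]
      push_cast
      exact inv_mul_cancel₀ hM0
    rw [h3]
  have key5 : scal PY (j : ℚ) (chHom PY hKY dY (f x)) =
      ((j : ℚ) ^ (δ + n)) • chHom PY hKY dY (f x) := by
    have h1 := congrArg (Phi PY hKY dY) key4
    rw [Phi_tmul, Phi_tmul, one_smul, chHom_adams PY hKY hdY] at h1
    exact h1
  have key6 : ∀ m : ℕ, (m : ℤ) ≠ n + δ → ch PY hKY m (f x) = 0 := by
    intro m hm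
    have h1 := congrArg (degProj PY (m : ℤ)) key5
    rw [degProj_scal, map_smul, degProj_chHom PY hKY hdY, Int.toNat_natCast] at h1
    have h2 : ((j : ℚ) ^ m - (j : ℚ) ^ (δ + n)) • ch PY hKY m (f x) = 0 := by
      rw [sub_smul, h1, sub_self]
    rcases smul_eq_zero.1 h2 with h3 | h3
    · exfalso
      rw [sub_eq_zero, ← zpow_natCast] at h3
      have h4 : (1 : ℚ) < j := by exact_mod_cast (by omega : 1 < j)
      have h5 := zpow_right_injective₀ (by positivity) h4.ne' h3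
      omega
    · exact h3
  have hfx : f x ∈ QF PY ((n : ℤ) + δ).toNat := by
    obtain ⟨N, hN, hNx⟩ := hxn
    have h1 := hf n _ hNx
    rw [← nsmul_eq_mul, map_nsmul, nsmul_eq_mul] at h1
    exact mem_QF_of_natCast_mul hN h1
  have key7 : fG h = grK PY ((n : ℤ) + δ) (f x) := by
    rw [← hgr]
    exact grPush_apply hfG hxn
  rw [key7]
  rcases le_or_gt 0 ((n : ℤ) + δ) with hs | hs
  · obtain ⟨m0, hm0⟩ := Int.eq_ofNat_of_zero_le hs
    rw [hm0] at hfx ⊢
    rw [Int.toNat_natCast] at hfx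
    rw [← ch_of_mem_QF PY hKY m0 _ hfx]
    apply ext_degProj hdY
    intro m _
    rw [degProj_chHom PY hKY hdY, degProj_ch]
    split_ifs with hmm
    · rw [hmm]
    · apply key6
      rw [hm0]
      intro h0
      exact hmm (by exact_mod_cast h0.symm)
  · rw [grK_neg_degree hs]
    apply ext_degProj hdY
    intro m _
    rw [degProj_chHom PY hKY hdY, map_zero]
    apply key6
    omega

include hKX hKY hdX hdY in
/-- **Abstract Grothendieck–Riemann–Roch**. -/
theorem abstract_grr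
    (hf : ∀ (k : ℕ) (x : KX), x ∈ gammaFiltration PX k → f x ∈ QF PY ((k : ℤ) + δ).toNat)
    (j : ℕ) (hj : 2 ≤ j) (μ : KX) (M : ℕ) (hM : 1 ≤ M)
    (hRR : ∀ x : KX, (M : ℤ) • ((1 : ℚ) ⊗ₜ[ℤ] adams PY j (f x)) =
      (1 : ℚ) ⊗ₜ[ℤ] f (μ * adams PX j x))
    (τ : Gr PX) (hτ0 : degProj PX 0 τ = 1)
    (hτ : τ * chK PX dX μ = ((M : ℚ) * (j : ℚ) ^ δ) • scal PX (j : ℚ) τ) :
    ∃ fG : Gr PX →+ Gr PY, IsGrPush PX PY f δ fG ∧
      ∀ x : KX, chK PY dY (f x) = fG (τ * chK PX dX x) := by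
  obtain ⟨fG, hfG⟩ := exists_isGrPush f δ hf
  refine ⟨fG.toAddMonoidHom, hfG, ?_⟩
  have hτu := isUnit_of_degProj_zero hdX hτ0
  obtain ⟨τ', hττ'⟩ := hτu.exists_right_inv
  rw [← chHom_apply PX hKX] at hτ
  -- the general statement on `ℚ ⊗ KX`
  have gen : ∀ z : Gr PX, ∃ y : ℚ ⊗[ℤ] KX, τ * Phi PX hKX dX y = z ∧
      Phi PY hKY dY (LinearMap.lTensor ℚ f.toIntLinearMap y) = fG z := by
    intro z
    have hom : ∀ n : ℕ, ∃ y : ℚ ⊗[ℤ] KX, τ * Phi PX hKX dX y = degProj PX (n : ℤ) z ∧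
        Phi PY hKY dY (LinearMap.lTensor ℚ f.toIntLinearMap y) = fG (degProj PX (n : ℤ) z) := by
      intro n
      obtain ⟨y, hy⟩ := Phi_surjective PX hKX dX hdX (τ' * degProj PX (n : ℤ) z)
      obtain ⟨N, x, hN, rfl⟩ := exists_tmul y
      have hN0 : (N : ℚ) ≠ 0 := by positivity
      have h1 : τ * Phi PX hKX dX ((1 / (N : ℚ)) ⊗ₜ[ℤ] x) = degProj PX (n : ℤ) z := by
        rw [hy, ← mul_assoc, hττ', one_mul]
      refine ⟨_, h1, ?_⟩
      rw [Phi_tmul, mul_smul_comm] at h1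
      have h2 : τ * chHom PX hKX dX x = (N : ℚ) • degProj PX (n : ℤ) z := by
        rw [← h1, smul_smul, mul_one_div, div_self hN0, one_smul]
      have h3 := homog_case hKX hKY hdX hdY f δ j hj μ M hM hRR τ hτ0 hτ fG hfG hf n x (by
        rw [h2, map_smul, degProj_self])
      rw [LinearMap.lTensor_tmul, Phi_tmul]
      change (1 / (N : ℚ)) • chHom PY hKY dY (f x) = _
      rw [h3, h2, map_smul, smul_smul, one_div, inv_mul_cancel₀ hN0, one_smul]
    choose y hy1 hy2 using hom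
    refine ⟨∑ n ∈ Finset.range (dX + 1), y n, ?_, ?_⟩
    · rw [map_sum, Finset.mul_sum]
      simp only [hy1]
      exact sum_degProj hdX z
    · rw [map_sum, map_sum]
      simp only [hy2]
      rw [← map_sum, sum_degProj hdX z]
  intro x
  obtain ⟨y, hy1, hy2⟩ := gen (τ * chHom PX hKX dX x)
  have h1 : Phi PX hKX dX y = Phi PX hKX dX ((1 : ℚ) ⊗ₜ[ℤ] x) := by
    rw [Phi_tmul, one_smul]
    have h2 := congrArg (fun z => τ' * z) hy1
    rw [← mul_assoc, ← mul_assoc, mul_comm τ' τ, hττ', one_mul, one_mul] at h2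
    exact h2
  have h3 := Phi_injective PX hKX dX hdX h1
  rw [h3, LinearMap.lTensor_tmul, Phi_tmul, one_smul] at hy2
  rw [← chHom_apply PX hKX, ← chHom_apply PY hKY]
  exact hy2

end main

end Groth.Agent.Krr.H462.AbsGRR
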