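import Groth.Agent.Krr.H482.PullLambda
import Groth.Agent.Krr.H442.AmpleClass
import Groth.Agent.Sga67.TwistOver

/-!
# The classes `[i^*O(1)]`, `[i^*O(-1)]` and `[i^*(p^*O^{n+1} ⊗ O(-1))]`

For `i : X ⟶ P^n_Y`: `[i^*O(1)] · [i^*O(-1)] = 1`, both are line elements, and
`i^K [O(-1) ⊗ p^*O^{n+1}] = (n+1) [i^*O(-1)]`.
-/

set_option autoImplicit false
universe v w t u

open CategoryTheory CategoryTheory.Limits AlgebraicGeometry

namespace Groth.Agent.Krr.H462.TangentGeom

open KRR Groth.Agent.Krr.H482.PullLambda Groth.Agent.Krr.H442.AmpleClass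

variable {n : ℕ} {Y : Scheme.{u}}

theorem isFinLocFreeOfRank_twistOver (d : ℤ) :
    FlatMod.IsFinLocFreeOfRank 1 (Twist.twistOver n Y d) :=
  isFinLocFreeOfRank_one (Groth.Agent.Ega3B.ProjFrame.isInvertible_twistOver n d)

theorem isFinLocFree_twistOver (d : ℤ) : FlatMod.IsFinLocFree (Twist.twistOver n Y d) :=
  isFinLocFree_of_rank (isFinLocFreeOfRank_twistOver d)

section P

variable {KP : Type w} [CommRing KP] [LambdaRing.LambdaOps KP] {PP : LambdaRing.PosStructure KP}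
  {φP : SGA6.Kvb (KRR.PY n Y) →+ KP}

theorem twist_mul (hKP : IsModel (KRR.PY n Y) KP PP φP) (a b : ℤ) :
    φP (cl _ (Twist.twistOver n Y a)) * φP (cl _ (Twist.twistOver n Y b)) =
      φP (cl _ (Twist.twistOver n Y (a + b))) := by
  obtain ⟨e⟩ := Groth.Agent.Sga67.TwistOver.nonempty_twistOver_mul n Y a b
  rw [hKP.map_mul _ _ (isFinLocFree_twistOver a) (isFinLocFree_twistOver b)]
  exact congrArg φP (cl_iso e (Groth.Agent.Sga67.TwistOver.isFinLocFree_tw n Y a _
    (isFinLocFree_twistOver b)))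

theorem twist_zero (hKP : IsModel (KRR.PY n Y) KP PP φP) :
    φP (cl _ (Twist.twistOver n Y 0)) = 1 := by
  obtain ⟨e⟩ := Groth.Agent.Sga67.TwistOver.nonempty_twistOver_zero n Y
  rw [← hKP.map_one]
  exact congrArg φP (cl_iso e (isFinLocFree_twistOver 0))

theorem class_twF (hKP : IsModel (KRR.PY n Y) KP PP φP) (d : ℤ) {M : (KRR.PY n Y).Modules}
    (hM : FlatMod.IsFinLocFree M) :
    φP (cl _ (twF n Y d M)) = φP (cl _ (Twist.twistOver n Y d)) * φP (cl _ M) :=
  (hKP.map_mul _ _ (isFinLocFree_twistOver d) hM).symm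

theorem class_pull_free {KY : Type t} [CommRing KY] [LambdaRing.LambdaOps KY]
    {PY : LambdaRing.PosStructure KY} {φY : SGA6.Kvb Y →+ KY}
    (hKP : IsModel (KRR.PY n Y) KP PP φP) (hKY : IsModel Y KY PY φY) (N : ℕ) :
    φP (cl _ ((Scheme.Modules.pullback (KRR.pr n Y)).obj (FlatMod.freeMod Y N))) = N := by
  obtain ⟨q, hq⟩ := exists_isPull (KRR.pr n Y) hKY.bijective φP
  rw [← hq _ (isFinLocFree_freeMod Y N), model_freeMod hKY]
  exact map_natCast (pullRingHom hKP hKY hq) N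

end P

variable {X : Scheme.{u}} {i : X ⟶ KRR.PY n Y}
  {KX : Type v} [CommRing KX] [LambdaRing.LambdaOps KX] {PX : LambdaRing.PosStructure KX}
  {φX : SGA6.Kvb X →+ KX}
  {KP : Type w} [CommRing KP] [LambdaRing.LambdaOps KP] {PP : LambdaRing.PosStructure KP}
  {φP : SGA6.Kvb (KRR.PY n Y) →+ KP} {gi : KP →+ KX}

theorem isLine_pull_twist (hKX : IsModel X KX PX φX) (d : ℤ) :
    PX.IsLine (φX (cl X ((Scheme.Modules.pullback i).obj (Twist.twistOver n Y d)))) :=
  isLine_cl hKX (isFinLocFreeOfRank_pullback i (isFinLocFreeOfRank_twistOver d))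

theorem pull_twist_mul (hKX : IsModel X KX PX φX) (hKP : IsModel (KRR.PY n Y) KP PP φP)
    (hgi : IsPull i φP φX gi) :
    φX (cl X ((Scheme.Modules.pullback i).obj (Twist.twistOver n Y 1))) *
      φX (cl X ((Scheme.Modules.pullback i).obj (Twist.twistOver n Y (-1)))) = 1 := by
  rw [← hgi _ (isFinLocFree_twistOver 1), ← hgi _ (isFinLocFree_twistOver (-1)),
    ← pull_mul hKX hKP hgi, twist_mul hKP, add_neg_cancel, twist_zero hKP, pull_one hKX hKP hgi]

theorem pull_euler {KY : Type t} [CommRing KY] [LambdaRing.LambdaOps KY]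
    {PY : LambdaRing.PosStructure KY} {φY : SGA6.Kvb Y →+ KY}
    (hKX : IsModel X KX PX φX) (hKP : IsModel (KRR.PY n Y) KP PP φP) (hKY : IsModel Y KY PY φY)
    (hgi : IsPull i φP φX gi) (d : ℤ) (N : ℕ) :
    gi (φP (cl (KRR.PY n Y) (KRR.twF n Y d
      ((Scheme.Modules.pullback (KRR.pr n Y)).obj (FlatMod.freeMod Y N))))) =
      (N : KX) * φX (cl X ((Scheme.Modules.pullback i).obj (Twist.twistOver n Y d))) := by
  have h1 : FlatMod.IsFinLocFree
      ((Scheme.Modules.pullback (KRR.pr n Y)).obj (FlatMod.freeMod Y N)) :=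
    isFinLocFree_pullback _ (isFinLocFree_freeMod Y N)
  rw [class_twF hKP d h1, class_pull_free hKP hKY, pull_mul hKX hKP hgi,
    hgi _ (isFinLocFree_twistOver d), mul_comm]
  congr 1
  exact map_natCast (pullRingHom hKX hKP hgi) N

end Groth.Agent.Krr.H462.TangentGeom
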