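import Groth.Agent.Krr.H493.ChBij
import Mathlib.RingTheory.Localization.Away.Basic
import Mathlib.RingTheory.TensorProduct.Maps

/-!
# From `ℤ[1/j] ⊗ K` to `ℚ ⊗ K` with cleared denominators

`exists_denominator`: the conclusion of Adams–Riemann–Roch in the form of S3753 (an inverse `w` of
`1 ⊗ θ` in `R ⊗ KX`) in the form used by `AbsGRR.abstract_grr`.
-/

set_option autoImplicit false
universe v w w'

open scoped TensorProduct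

namespace Groth.Agent.Krr.H462.TensorRR

open Groth.Agent.Krr.H493.ChBij

/-- The ring homomorphism `ℤ[1/j] → ℚ`. -/
noncomputable def toRat (j : ℕ) (hj : 1 ≤ j) : Localization.Away (j : ℤ) →+* ℚ :=
  IsLocalization.Away.lift (S := Localization.Away (j : ℤ)) (j : ℤ) (g := Int.castRingHom ℚ) (by
    rw [isUnit_iff_ne_zero]
    simp
    omega)

lemma one_tmul_eq {K : Type v} [CommRing K] {x y : K}
    (h : (1 : ℚ) ⊗ₜ[ℤ] x = (1 : ℚ) ⊗ₜ[ℤ] y) : ∃ N : ℕ, 1 ≤ N ∧ (N : K) * x = (N : K) * y := by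
  have h1 : (1 : ℚ) ⊗ₜ[ℤ] (x - y) = 0 := by rw [TensorProduct.tmul_sub, h, sub_self]
  obtain ⟨k, hk, hk'⟩ := Groth.Agent.Krr.H500.GrK.exists_nsmul_eq_zero one_ne_zero h1
  refine ⟨k, hk, ?_⟩
  rw [nsmul_eq_mul, mul_sub, sub_eq_zero] at hk'
  exact hk'

theorem exists_denominator_aux {R : Type w'} [CommRing R] (π : R →+* ℚ)
    {KX : Type v} {KY : Type w} [CommRing KX] [CommRing KY] (f : KX →+ KY)
    (j : ℕ) (θ : KX) (A : KY → KY) (B : KX → KX)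
    (hw : ∃ w : R ⊗[ℤ] KX, w * ((1 : R) ⊗ₜ[ℤ] θ) = 1)
    (hRR : ∀ x : KX, ∀ w : R ⊗[ℤ] KX, w * ((1 : R) ⊗ₜ[ℤ] θ) = 1 →
      (1 : R) ⊗ₜ[ℤ] A (f x) =
        LinearMap.lTensor R f.toIntLinearMap
          ((j : R ⊗[ℤ] KX) * ((1 : R) ⊗ₜ[ℤ] B x) * w)) :
    ∃ (w₀ : KX) (M : ℕ), 1 ≤ M ∧ w₀ * θ = (M : KX) ∧
      ∀ x : KX, (M : ℤ) • ((1 : ℚ) ⊗ₜ[ℤ] A (f x)) = (1 : ℚ) ⊗ₜ[ℤ] f (((j : KX) * w₀) * B x) := by
  obtain ⟨w, hw⟩ := hw
  let ρ : R ⊗[ℤ] KX →ₐ[ℤ] ℚ ⊗[ℤ] KX :=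
    Algebra.TensorProduct.map π.toIntAlgHom (AlgHom.id ℤ KX)
  have hρ : ∀ (r : R) (x : KX), ρ (r ⊗ₜ[ℤ] x) = (π r) ⊗ₜ[ℤ] x := fun r x => rfl
  let σ : R ⊗[ℤ] KY →ₗ[ℤ] ℚ ⊗[ℤ] KY :=
    LinearMap.rTensor KY π.toIntAlgHom.toLinearMap
  have hσ : ∀ (r : R) (x : KY), σ (r ⊗ₜ[ℤ] x) = (π r) ⊗ₜ[ℤ] x := fun r x => rfl
  have nat : ∀ z : R ⊗[ℤ] KX, σ (LinearMap.lTensor R f.toIntLinearMap z) =
      LinearMap.lTensor ℚ f.toIntLinearMap (ρ z) := by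
    intro z
    induction z using TensorProduct.induction_on with
    | zero => simp only [map_zero]
    | add a b ha hb => simp only [map_add, ha, hb]
    | tmul r x => rfl
  have h1 : ρ w * ((1 : ℚ) ⊗ₜ[ℤ] θ) = 1 := by
    have := congrArg ρ hw
    rw [map_mul, map_one, hρ, map_one] at this
    exact this
  obtain ⟨M, w₁, hM, hw₁⟩ := exists_tmul (ρ w)
  have hM0 : (M : ℚ) ≠ 0 := by positivity
  have h2 : (1 : ℚ) ⊗ₜ[ℤ] (w₁ * θ) = (1 : ℚ) ⊗ₜ[ℤ] (M : KX) := by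
    rw [hw₁, Algebra.TensorProduct.tmul_mul_tmul, mul_one] at h1
    have h3 := congrArg (fun z => (M : ℚ) • z) h1
    simp only [TensorProduct.smul_tmul', smul_eq_mul] at h3
    rw [mul_one_div, div_self hM0] at h3
    rw [h3]
    have h4 : (1 : TensorProduct ℤ ℚ KX) = (1 : ℚ) ⊗ₜ[ℤ] (1 : KX) := rfl
    have h5 : (M : KX) = (M : ℤ) • (1 : KX) := by simp
    rw [h4, TensorProduct.smul_tmul', h5, ← TensorProduct.smul_tmul]
    congr 1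
  obtain ⟨N, hN, hN'⟩ := one_tmul_eq h2
  have hN0 : (N : ℚ) ≠ 0 := by positivity
  refine ⟨(N : KX) * w₁, N * M, Nat.mul_pos hN hM, ?_, ?_⟩
  · rw [mul_assoc, hN']
    push_cast
    rfl
  · intro x
    have h3 := congrArg σ (hRR x w hw)
    rw [hσ, nat, map_mul ρ, map_mul ρ, map_natCast ρ, hρ, map_one, hw₁] at h3
    rw [h3]
    have h4 : ((j : TensorProduct ℤ ℚ KX) * ((1 : ℚ) ⊗ₜ[ℤ] B x) * ((1 / (M : ℚ)) ⊗ₜ[ℤ] w₁)) =
        (1 / (M : ℚ)) ⊗ₜ[ℤ] ((j : KX) * w₁ * B x) := by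
      have h5 : (j : TensorProduct ℤ ℚ KX) = (1 : ℚ) ⊗ₜ[ℤ] (j : KX) := by
        have := map_natCast (Algebra.TensorProduct.includeRight : KX →ₐ[ℤ] TensorProduct ℤ ℚ KX) j
        rw [← this]
        rfl
      rw [h5, Algebra.TensorProduct.tmul_mul_tmul, Algebra.TensorProduct.tmul_mul_tmul, one_mul,
        one_mul]
      congr 1
      ring
    rw [h4, LinearMap.lTensor_tmul]
    have h6 : f ((j : KX) * ((N : KX) * w₁) * B x) = (N : ℤ) • f ((j : KX) * w₁ * B x) := by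
      rw [← map_zsmul, zsmul_eq_mul]
      congr 1
      push_cast
      ring
    rw [h6, ← TensorProduct.smul_tmul, TensorProduct.smul_tmul']
    change _ ⊗ₜ[ℤ] f _ = _
    congr 1
    rw [zsmul_eq_mul, zsmul_eq_mul]
    push_cast
    field_simp

theorem exists_denominator {KX : Type v} {KY : Type w} [CommRing KX] [CommRing KY] (f : KX →+ KY)
    (j : ℕ) (hj : 1 ≤ j) (θ : KX) (A : KY → KY) (B : KX → KX)
    (h : ∀ x : KX, (∃ w : TensorProduct ℤ (Localization.Away (j : ℤ)) KX,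
        w * ((1 : Localization.Away (j : ℤ)) ⊗ₜ[ℤ] θ) = 1) ∧
      ∀ w : TensorProduct ℤ (Localization.Away (j : ℤ)) KX,
      w * ((1 : Localization.Away (j : ℤ)) ⊗ₜ[ℤ] θ) = 1 →
      (1 : Localization.Away (j : ℤ)) ⊗ₜ[ℤ] A (f x) =
        LinearMap.lTensor (Localization.Away (j : ℤ)) f.toIntLinearMap
          ((j : TensorProduct ℤ (Localization.Away (j : ℤ)) KX) *
            ((1 : Localization.Away (j : ℤ)) ⊗ₜ[ℤ] B x) * w)) :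
    ∃ (w₀ : KX) (M : ℕ), 1 ≤ M ∧ w₀ * θ = (M : KX) ∧
      ∀ x : KX, (M : ℤ) • ((1 : ℚ) ⊗ₜ[ℤ] A (f x)) = (1 : ℚ) ⊗ₜ[ℤ] f (((j : KX) * w₀) * B x) :=
  exists_denominator_aux (toRat j hj) f j θ A B (h 0).1 (fun x w hw => (h x).2 w hw)

end Groth.Agent.Krr.H462.TensorRR
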