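import Groth.Agent.Krr.H462.GRRMain
import Groth.Agent.Krr.H462.TensorRR
import Groth.Agent.Krr.H462.TangentGeom
import Groth.Agent.Krr.H463.DualLam
import Groth.Agent.Krr.H442.GrMap
import Groth.Agent.Krr.H442.ModelIso
import Groth.Prelude.Def_Omega2

/-!
# Grothendieck–Riemann–Roch: assembly

`main_of_splitting`: S3763 for models with splitting, vanishing `F^{d+1}`, from the filtration
shift (S3777) and Adams–Riemann–Roch (S3753 for `j = 2`).
`transport`: from models in one universe to models in another one.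
-/

set_option autoImplicit false
universe v w u

open CategoryTheory CategoryTheory.Limits AlgebraicGeometry
open scoped TensorProduct
open KRR

namespace Groth.Agent.Krr.H462.Final

open Groth.Agent.Krr.H482.PullLambda Groth.Agent.Krr.H442.AmpleClass
open Groth.Agent.Krr.H462.TangentGeom

/-- The conclusion of the theorem. -/
def Concl {KX KY : Type v} [CommRing KX] [LambdaRing.LambdaOps KX] [CommRing KY]
    [LambdaRing.LambdaOps KY] (PX : LambdaRing.PosStructure KX) (PY : LambdaRing.PosStructure KY)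
    (f : KX →+ KY) (δ : ℤ) (dX dY : ℕ) (T : KX) : Prop :=
  ∃ fG : KGr.Gr PX →+ KGr.Gr PY, KGr.IsGrPush PX PY f δ fG ∧
      ∀ x : KX, KGr.chK PY dY (f x) = fG (KGr.tdK PX dX T * KGr.chK PX dX x)

theorem dual_alternative {X : Scheme.{u}} {C : X.Modules} [DCoh.HasSheafHom C] (c : ℕ)
    (hC : FlatMod.IsFinLocFreeOfRank c C)
    {KX : Type v} [CommRing KX] [LambdaRing.LambdaOps KX] {PX : LambdaRing.PosStructure KX}
    {φX : SGA6.Kvb X →+ KX} (hKX : KRR.IsModel X KX PX φX) :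
    (φX (KRR.cl X C) ∈ PX.pos ∧ PX.aug (φX (KRR.cl X C)) = c ∧
        φX (KRR.cl X ((DCoh.sheafHom C).obj (Coh.structureModule X))) *
          LambdaRing.LambdaOps.lam c (φX (KRR.cl X C)) =
          LambdaRing.LambdaOps.lam (c - 1) (φX (KRR.cl X C))) ∨
      (c = 0 ∧ φX (KRR.cl X C) = 0 ∧
        φX (KRR.cl X ((DCoh.sheafHom C).obj (Coh.structureModule X))) = 0) := by
  rcases Nat.eq_zero_or_pos c with rfl | hc
  · refine Or.inr ⟨rfl, ?_, ?_⟩
    · rw [cl_eq_zero_of_rank_zero hC, map_zero]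
    · rw [cl_eq_zero_of_rank_zero (Groth.Agent.Krr.H463.DualLam.isFinLocFreeOfRank_dual hC),
        map_zero]
  · exact Or.inl ⟨(hKX.mem_pos_iff _).2 ⟨c, C, hc, hC, rfl⟩, hKX.aug_cl c C hC,
      Groth.Agent.Krr.H463.DualLam.dual_mul_lam hKX hc hC⟩

theorem main_of_splitting (n : ℕ) {X Y : Scheme.{u}}
    (dY : ℕ) (i : X ⟶ KRR.PY n Y)
    (dX : ℕ) (c : ℕ)
    (hC : FlatMod.IsFinLocFreeOfRank c (Omega.conormal i)) [DCoh.HasSheafHom (Omega.conormal i)]
    (KX : Type v) [CommRing KX] [LambdaRing.LambdaOps KX] (PX : LambdaRing.PosStructure KX)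
    (φX : SGA6.Kvb X →+ KX) (hKX : KRR.IsModel X KX PX φX)
    (KP : Type v) [CommRing KP] [LambdaRing.LambdaOps KP] (PP : LambdaRing.PosStructure KP)
    (φP : SGA6.Kvb (KRR.PY n Y) →+ KP) (hKP : KRR.IsModel (KRR.PY n Y) KP PP φP)
    (KY : Type v) [CommRing KY] [LambdaRing.LambdaOps KY] (PY : LambdaRing.PosStructure KY)
    (φY : SGA6.Kvb Y →+ KY) (hKY : KRR.IsModel Y KY PY φY)
    (a : KX →+ KP) (b : KP →+ KY)
    (hsX : LambdaRing.HasSplitting KX PX) (hsY : LambdaRing.HasSplitting KY PY)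
    (hdX : LambdaRing.gammaFiltration PX (dX + 1) = ⊥)
    (hdY : LambdaRing.gammaFiltration PY (dY + 1) = ⊥)
    (h77 : ∀ (k : ℕ) (x : KX), x ∈ LambdaRing.gammaFiltration PX k →
      ∃ N : ℕ, 1 ≤ N ∧ (N : KY) * b (a x) ∈ LambdaRing.gammaFiltration PY (k + c - n))
    (h53 : ∀ (gi : KP →+ KX), KRR.IsPull i φP φX gi → ∀ x : KX,
      (∃ w : TensorProduct ℤ (Localization.Away ((2 : ℕ) : ℤ)) KX, w * ((1 : Localization.Away ((2 : ℕ) : ℤ)) ⊗ₜ[ℤ] KRR.bott PX 2 (gi (φP (KRR.cl (KRR.PY n Y)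
        (KRR.twF n Y (-1) ((Scheme.Modules.pullback (KRR.pr n Y)).obj (FlatMod.freeMod Y (n + 1)))))))) = 1) ∧
      ∀ w : TensorProduct ℤ (Localization.Away ((2 : ℕ) : ℤ)) KX, w * ((1 : Localization.Away ((2 : ℕ) : ℤ)) ⊗ₜ[ℤ] KRR.bott PX 2 (gi (φP (KRR.cl (KRR.PY n Y)
        (KRR.twF n Y (-1) ((Scheme.Modules.pullback (KRR.pr n Y)).obj (FlatMod.freeMod Y (n + 1)))))))) = 1 →
      (1 : Localization.Away ((2 : ℕ) : ℤ)) ⊗ₜ[ℤ] LambdaRing.adams PY 2 (b (a x)) =
        LinearMap.lTensor (Localization.Away ((2 : ℕ) : ℤ)) (b.comp a).toIntLinearMap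
          (((2 : ℕ) : TensorProduct ℤ (Localization.Away ((2 : ℕ) : ℤ)) KX) *
            ((1 : Localization.Away ((2 : ℕ) : ℤ)) ⊗ₜ[ℤ] (KRR.bott PX 2 (φX (KRR.cl X (Omega.conormal i))) * LambdaRing.adams PX 2 x)) * w)) :
    Concl PX PY (b.comp a) ((c : ℤ) - n) dX dY
      (((n + 1 : ℕ) : KX) * φX (KRR.cl X ((Scheme.Modules.pullback i).obj (Twist.twistOver n Y 1))) - 1
        - φX (KRR.cl X ((DCoh.sheafHom (Omega.conormal i)).obj (Coh.structureModule X)))) := by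
  obtain ⟨gi, hgi⟩ := exists_isPull i hKP.bijective φX
  have h53' := h53 gi hgi
  rw [pull_euler hKX hKP hKY hgi (-1) (n + 1)] at h53'
  obtain ⟨w₀, M, hM, hw, hRR⟩ := TensorRR.exists_denominator (b.comp a) 2 (by norm_num)
    (KRR.bott PX 2 (((n + 1 : ℕ) : KX) *
      φX (KRR.cl X ((Scheme.Modules.pullback i).obj (Twist.twistOver n Y (-1))))))
    (LambdaRing.adams PY 2)
    (fun x => KRR.bott PX 2 (φX (KRR.cl X (Omega.conormal i))) * LambdaRing.adams PX 2 x) h53'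
  refine GRRMain.grr_alg hsX hsY hdX hdY (b.comp a) c n ?_ (φX (KRR.cl X (Omega.conormal i))) _ _
    (φX (KRR.cl X ((Scheme.Modules.pullback i).obj (Twist.twistOver n Y (-1)))))
    (isLine_pull_twist hKX (-1)) (pull_twist_mul hKX hKP hgi) (dual_alternative c hC hKX) 2 le_rfl
    w₀ M hM hw hRR
  intro k x hx
  have h1 : ((k : ℤ) + ((c : ℤ) - n)).toNat = k + c - n := by omega
  rw [h1]
  exact h77 k x hx

section transport

open Groth.Agent.Krr.H442.PosIso Groth.Agent.Krr.H442.GrMap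

theorem transport {KX KY : Type v} [CommRing KX] [LambdaRing.LambdaOps KX] [CommRing KY]
    [LambdaRing.LambdaOps KY] {PX : LambdaRing.PosStructure KX} {PY : LambdaRing.PosStructure KY}
    {KX' KY' : Type w} [CommRing KX'] [LambdaRing.LambdaOps KX'] [CommRing KY']
    [LambdaRing.LambdaOps KY'] {PX' : LambdaRing.PosStructure KX'}
    {PY' : LambdaRing.PosStructure KY'} {eX : KX ≃+* KX'} {eY : KY ≃+* KY'}
    (hX : PosIso PX PX' eX) (hY : PosIso PY PY' eY)
    {f : KX →+ KY} {f' : KX' →+ KY'} (hf : ∀ x, f' (eX x) = eY (f x)) (δ : ℤ) (dX dY : ℕ) (T : KX)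
    (h : Concl PX' PY' f' δ dX dY (eX T)) : Concl PX PY f δ dX dY T := by
  obtain ⟨fG, hfG, hch⟩ := h
  refine ⟨conjG hX.symm hY.symm fG, isGrPush_conj hX.symm hY.symm hfG f ?_, ?_⟩
  · intro x
    obtain ⟨y, rfl⟩ := eX.surjective x
    rw [hf, RingEquiv.symm_apply_apply, RingEquiv.symm_apply_apply]
  · intro x
    have h1 := conjG_grEquiv hX.symm hY.symm fG (KGr.tdK PX' dX (eX T) * KGr.chK PX' dX (eX x))
    rw [grEquiv_mul, grEquiv_tdK, grEquiv_chK, RingEquiv.symm_apply_apply,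
      RingEquiv.symm_apply_apply, ← hch, grEquiv_chK, hf, RingEquiv.symm_apply_apply] at h1
    exact h1.symm

end transport

end Groth.Agent.Krr.H462.Final
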