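import Groth.Agent.Krr.H462.AbsGRR
import Groth.Agent.Krr.H491.BottTodd
import Groth.Agent.Krr.H491.BottMul
import Groth.Agent.Krr.H442.GrMap

/-!
# Algebraic Grothendieck–Riemann–Roch for `T = (N u - 1) - e'`

`KX`, `KY` λ-rings with splitting and `F^{d+1} = 0`; `f : KX →+ KY` satisfying Adams–Riemann–Roch
with multiplier `j θ^j(e) θ^j(N v)⁻¹`, `u v = 1` line elements, `e'` dual to `e`.
-/

set_option autoImplicit false
universe v w

open scoped TensorProduct
open LambdaRing KGr

namespace Groth.Agent.Krr.H462.GRRAlg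

open Groth.Agent.Books.Lambda1
open Groth.Agent.Books.Lambda2
open Groth.Agent.Krr.H500.GrK
open Groth.Agent.Krr.H500.GrChern
open Groth.Agent.Krr.H462.GrMap Groth.Agent.Krr.H462.AbsGRR
open Groth.Agent.Krr.H493.ChK Groth.Agent.Krr.H493.ChBij Groth.Agent.Krr.H493.ChMul
open Groth.Agent.Krr.H491.KQ Groth.Agent.Krr.H491.Todd Groth.Agent.Krr.H491.BottTodd
open Groth.Agent.Krr.H491.BottMul Groth.Agent.Krr.H491.Bott

section one

variable {K : Type v} [CommRing K] [LambdaRing.LambdaOps K] (P : LambdaRing.PosStructure K)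
  (hK : HasSplitting K P) {d : ℕ} (hd : gammaFiltration P (d + 1) = ⊥)

lemma psiG_eq_scal (j : ℕ) (z : Gr P) : psiG P hK hd j z = scal P (j : ℚ) z := by
  have h : (psiG P hK hd j).toLinearMap = (scal P (j : ℚ)).toLinearMap := by
    apply gr_ext
    intro n x hx
    change psiG P hK hd j (grK P (n : ℤ) x) = scal P (j : ℚ) (grK P (n : ℤ) x)
    rw [psiG_of_mem P hK hd j n (grK_mem_HomG P n x), scal_grK _ (mem_QF_of_mem (by simpa using hx)),
      Int.toNat_natCast]
  exact congrArg (fun F => F z) h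

lemma deg0_mul (a b : Gr P) : degProj P 0 (a * b) = degProj P 0 a * degProj P 0 b := by
  have h := degProj_mul (P := P) 0 a b
  rw [Finset.Nat.antidiagonal_zero, Finset.sum_singleton] at h
  exact h

lemma deg0_algebraMap (r : ℚ) : degProj P 0 (algebraMap ℚ (Gr P) r) = algebraMap ℚ (Gr P) r := by
  rw [Algebra.algebraMap_eq_smul_one, map_smul, degProj_one, if_pos rfl]

lemma deg0_chern (i : ℕ) (x : K) : degProj P 0 (chern P (i + 1) x) = 0 := by
  rw [chern, degProj_grK_of_ne (by omega)]
  exact mem_QF_of_mem (by simpa using gamma_sub_aug_mem P (i + 1) x)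

lemma constantCoeff_toddPoly (d : ℕ) :
    MvPolynomial.aeval (fun _ : Fin d => (0 : ℚ)) (toddPoly d) = 1 := by
  have h1 : MvPolynomial.aeval (fun i : Fin d => MvPolynomial.esymm (Fin d) ℚ (i + 1))
      (toddPoly d) = ∏ i : Fin d, Polynomial.aeval (MvPolynomial.X i) (toddTrunc d) := by
    rw [← MvPolynomial.esymmAlgHom_apply]
    have h2 := (MvPolynomial.esymmAlgEquiv (Fin d) ℚ (Fintype.card_fin d)).apply_symm_apply
      ⟨∏ i : Fin d, Polynomial.aeval (MvPolynomial.X i) (toddTrunc d),
        isSymmetric_prod_aeval d (toddTrunc d)⟩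
    exact congrArg Subtype.val h2
  have h2 := congrArg (MvPolynomial.aeval (fun _ : Fin d => (0 : ℚ))) h1
  rw [← AlgHom.comp_apply, MvPolynomial.comp_aeval] at h2
  have h3 : (fun i : Fin d => (MvPolynomial.aeval fun _ : Fin d => (0 : ℚ))
      (MvPolynomial.esymm (Fin d) ℚ (i + 1))) = fun _ => 0 := by
    ext1 i
    rw [MvPolynomial.esymm, map_sum]
    refine Finset.sum_eq_zero fun t ht => ?_
    have hc := (Finset.mem_powersetCard.1 ht).2
    rw [map_prod]
    simp only [MvPolynomial.aeval_X]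
    rw [Finset.prod_const, hc, pow_succ, mul_zero]
  rw [h3] at h2
  rw [h2, map_prod]
  refine Finset.prod_eq_one fun i _ => ?_
  rw [← Polynomial.aeval_algHom_apply, MvPolynomial.aeval_X, ← Polynomial.coeff_zero_eq_aeval_zero,
    toddTrunc, Polynomial.finsetSum_coeff, Finset.sum_eq_single 0]
  · simp
  · intro k _ hk
    rw [Polynomial.coeff_C_mul, Polynomial.coeff_X_pow, if_neg (by omega), mul_zero]
  · intro h
    exact absurd (Finset.mem_range.2 (by omega)) h

/-- The constant term of the Todd class is `1`. -/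
lemma degProj_zero_tdK (x : K) : degProj P 0 (tdK P d x) = 1 := by
  have h0 := Groth.Agent.Krr.H442.GrMap.map_aeval' (A := Gr P) (B := Gr P) (degProj P 0)
    (fun a b => map_add _ a b) (deg0_mul P) (deg0_algebraMap P)
    (fun i : Fin d => chern P (i.1 + 1) x) (toddPoly d)
  rw [tdK]
  refine h0.trans ?_
  have h1 : (fun i : Fin d => degProj P 0 (chern P (i.1 + 1) x)) = fun i : Fin d => 0 := by
    ext1 i
    rw [deg0_chern]
  rw [h1]
  have h2 := Groth.Agent.Krr.H442.GrMap.map_aeval' (A := ℚ) (B := Gr P) (algebraMap ℚ (Gr P))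
    (fun a b => RingHom.map_add _ a b) (fun a b => RingHom.map_mul _ a b)
    (fun r => rfl) (fun i : Fin d => (0 : ℚ)) (toddPoly d)
  rw [constantCoeff_toddPoly, RingHom.map_one] at h2
  rw [h2]
  congr 2
  ext1 i
  exact (RingHom.map_zero _).symm

end one

end Groth.Agent.Krr.H462.GRRAlg
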