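import Groth.Agent.Krr.H462.GRRAlg

/-!
# Algebraic Grothendieck–Riemann–Roch: the main statement

`grr_alg`: for `f : KX →+ KY` satisfying Adams–Riemann–Roch for one `j ≥ 2` with multiplier
`j θ^j(e) θ^j(N v)⁻¹` and shifting the filtration by `c - n` (`N = n + 1`), one has
`ch (f x) = f_G (td (N u - 1 - e') ch x)`, `u v = 1`, `e'` dual to `e`.
-/

set_option autoImplicit false
universe v w

open scoped TensorProduct
open LambdaRing KGr

namespace Groth.Agent.Krr.H462.GRRMain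

open Groth.Agent.Books.Lambda1
open Groth.Agent.Books.Lambda2
open Groth.Agent.Krr.H500.GrK
open Groth.Agent.Krr.H462.GrMap Groth.Agent.Krr.H462.AbsGRR Groth.Agent.Krr.H462.GRRAlg
open Groth.Agent.Krr.H491.KQ Groth.Agent.Krr.H491.Todd Groth.Agent.Krr.H491.BottTodd
open Groth.Agent.Krr.H491.BottMul Groth.Agent.Krr.H491.Bott Groth.Agent.Krr.H493.ChMul

section one

variable {K : Type v} [CommRing K] [LambdaRing.LambdaOps K] (P : LambdaRing.PosStructure K)

lemma lam_natCast_mul_line {v : K} (hv : P.IsLine v) (N k : ℕ) :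
    LambdaOps.lam k ((N : K) * v) = (N.choose k : K) * v ^ k := by
  have h := lam_sum_line P (m := N) (fun _ => v) (fun _ => hv) k
  have h1 : ∑ _i : Fin N, v = (N : K) * v := by
    rw [Finset.sum_const, Finset.card_univ, Fintype.card_fin, nsmul_eq_mul]
  rw [h1] at h
  rw [h]
  have h2 : ∀ t ∈ Finset.powersetCard k (Finset.univ : Finset (Fin N)), ∏ _i ∈ t, v = v ^ k := by
    intro t ht
    rw [Finset.prod_const, (Finset.mem_powersetCard.1 ht).2]
  rw [Finset.sum_congr rfl h2, Finset.sum_const, Finset.card_powersetCard, Finset.card_univ,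
    Fintype.card_fin, nsmul_eq_mul]

lemma natCast_mul_line_mem {v : K} (hv : P.IsLine v) {N : ℕ} (hN : 0 < N) :
    (N : K) * v ∈ P.pos := P.mul_mem _ _ (P.natCast_mem N hN) hv.1

lemma aug_natCast_mul_line {v : K} (hv : P.IsLine v) (N : ℕ) : P.aug ((N : K) * v) = N := by
  rw [map_mul, map_natCast, hv.2, mul_one]

lemma dual_natCast_mul_line {u v : K} (hv : P.IsLine v) (huv : u * v = 1) (n : ℕ) :
    ((n + 1 : ℕ) : K) * u * LambdaOps.lam (n + 1) (((n + 1 : ℕ) : K) * v) =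
      LambdaOps.lam (n + 1 - 1) (((n + 1 : ℕ) : K) * v) := by
  rw [lam_natCast_mul_line P hv, lam_natCast_mul_line P hv, Nat.choose_self, Nat.add_sub_cancel,
    Nat.cast_one, one_mul, Nat.choose_succ_self_right, pow_succ]
  calc ((n + 1 : ℕ) : K) * u * (v ^ n * v) = ((n + 1 : ℕ) : K) * v ^ n * (u * v) := by ring
    _ = _ := by rw [huv, mul_one]

variable (hK : HasSplitting K P) {d : ℕ} (hd : gammaFiltration P (d + 1) = ⊥)

include hK hd in
/-- `ch(θ^j(e)) · ψ_G^j(td(e')) = j^c td(e')`, allowing `e = e' = 0`. -/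
lemma chK_bott_mul' (e e' : K) {c : ℕ}
    (he : (e ∈ P.pos ∧ P.aug e = c ∧ e' * LambdaOps.lam c e = LambdaOps.lam (c - 1) e) ∨
      (c = 0 ∧ e = 0 ∧ e' = 0)) (j : ℕ) :
    chK P d (KRR.bott P j e) * scal P (j : ℚ) (tdK P d e') = ((j : ℚ) ^ c) • tdK P d e' := by
  rcases he with ⟨he, hc, hdual⟩ | ⟨rfl, rfl, rfl⟩
  · rw [← psiG_eq_scal P hK hd]
    exact chK_bott_mul hK hd e e' he hc hdual j
  · have h0 : tdK P d (0 : K) = 1 := by
      have := tdK_natCast P hK hd 0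
      rwa [Nat.cast_zero] at this
    rw [bott_zero, chK_one P hK hd, h0, map_one, one_mul, pow_zero, one_smul]

include hK hd in
lemma tdK_tangent (a b : K) : tdK P d (a - 1 - b) * tdK P d b = tdK P d a := by
  have h1 : tdK P d (a - 1 - b) * tdK P d b = tdK P d (a - 1) := by
    rw [← tdK_add P hK hd, sub_add_cancel]
  have h2 : tdK P d (a - 1) * tdK P d (1 : K) = tdK P d a := by
    rw [← tdK_add P hK hd, sub_add_cancel]
  have h3 : tdK P d (1 : K) = 1 := by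
    have := tdK_natCast P hK hd 1
    rwa [Nat.cast_one] at this
  rw [h1, ← h2, h3, mul_one]

end one

section main

variable {KX KY : Type v} [CommRing KX] [LambdaRing.LambdaOps KX] [CommRing KY]
  [LambdaRing.LambdaOps KY] {PX : LambdaRing.PosStructure KX} {PY : LambdaRing.PosStructure KY}
  (hKX : HasSplitting KX PX) (hKY : HasSplitting KY PY) {dX dY : ℕ}
  (hdX : gammaFiltration PX (dX + 1) = ⊥) (hdY : gammaFiltration PY (dY + 1) = ⊥)
  (f : KX →+ KY)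

include hKX hdX in
/-- The multiplier identity `τ · ch μ = M j^{c-n} ψ_G(τ)`. -/
theorem multiplier (c n : ℕ) (e e' u v : KX) (hv : PX.IsLine v) (huv : u * v = 1)
    (he : (e ∈ PX.pos ∧ PX.aug e = c ∧ e' * LambdaOps.lam c e = LambdaOps.lam (c - 1) e) ∨
      (c = 0 ∧ e = 0 ∧ e' = 0)) (j : ℕ) (hj : 2 ≤ j) (w₀ : KX) (M : ℕ)
    (hw : w₀ * KRR.bott PX j (((n + 1 : ℕ) : KX) * v) = (M : KX)) :
    tdK PX dX (((n + 1 : ℕ) : KX) * u - 1 - e') *
        chK PX dX (((j : KX) * w₀) * KRR.bott PX j e) =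
      ((M : ℚ) * (j : ℚ) ^ ((c : ℤ) - n)) •
        scal PX (j : ℚ) (tdK PX dX (((n + 1 : ℕ) : KX) * u - 1 - e')) := by
  set τ := tdK PX dX (((n + 1 : ℕ) : KX) * u - 1 - e') with hτ
  set A := tdK PX dX (((n + 1 : ℕ) : KX) * u) with hA
  set B := tdK PX dX e' with hB
  have hj0 : (j : ℚ) ≠ 0 := by positivity
  have hτB : τ * B = A := tdK_tangent PX hKX hdX _ _
  have hBu : IsUnit B := isUnit_tdK PX hKX hdX e'
  have hsBu : IsUnit (scal PX (j : ℚ) B) := hBu.map _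
  have h1 : chK PX dX (KRR.bott PX j e) * scal PX (j : ℚ) B = ((j : ℚ) ^ c) • B :=
    chK_bott_mul' PX hKX hdX e e' he j
  have h2 : chK PX dX (KRR.bott PX j (((n + 1 : ℕ) : KX) * v)) * scal PX (j : ℚ) A =
      ((j : ℚ) ^ (n + 1)) • A := by
    refine chK_bott_mul' PX hKX hdX _ _ (Or.inl ⟨natCast_mul_line_mem PX hv (Nat.succ_pos n),
      aug_natCast_mul_line PX hv (n + 1), ?_⟩) j
    exact dual_natCast_mul_line PX hv huv n
  have h3 : chK PX dX w₀ * chK PX dX (KRR.bott PX j (((n + 1 : ℕ) : KX) * v)) =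
      ((M : ℚ)) • 1 := by
    rw [← chK_mul PX hKX hdX, hw, ← chRingHom_apply PX hKX hdX, map_natCast,
      Nat.cast_smul_eq_nsmul, nsmul_eq_mul, mul_one]
  have h4 : chK PX dX (((j : KX) * w₀) * KRR.bott PX j e) =
      (j : ℚ) • (chK PX dX w₀ * chK PX dX (KRR.bott PX j e)) := by
    rw [chK_mul PX hKX hdX, chK_mul PX hKX hdX]
    have h5 : chK PX dX (j : KX) = (j : ℚ) • (1 : Gr PX) := by
      rw [← chRingHom_apply PX hKX hdX, map_natCast, Nat.cast_smul_eq_nsmul, nsmul_eq_mul, mul_one]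
    rw [h5, smul_mul_assoc, smul_mul_assoc, one_mul]
  -- `ch(w₀) A j^{n+1} = M ψ(A)`
  have h5 : ((j : ℚ) ^ (n + 1)) • (chK PX dX w₀ * A) = (M : ℚ) • scal PX (j : ℚ) A := by
    rw [← mul_smul_comm, ← h2, ← mul_assoc, h3, smul_mul_assoc, one_mul]
  have h6 : chK PX dX w₀ * A = (((j : ℚ) ^ (n + 1))⁻¹ * M) • scal PX (j : ℚ) A := by
    rw [mul_smul, ← h5, smul_smul, inv_mul_cancel₀ (pow_ne_zero _ hj0), one_smul]
  apply hsBu.mul_right_cancel
  apply hBu.mul_right_cancel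
  calc τ * chK PX dX (((j : KX) * w₀) * KRR.bott PX j e) * scal PX (j : ℚ) B * B
      = (j : ℚ) • ((chK PX dX w₀ * (τ * B)) *
          (chK PX dX (KRR.bott PX j e) * scal PX (j : ℚ) B)) := by
        rw [h4, mul_smul_comm, smul_mul_assoc, smul_mul_assoc]
        congr 1
        ring
    _ = (j : ℚ) • ((((j : ℚ) ^ (n + 1))⁻¹ * M) • scal PX (j : ℚ) A *
          (((j : ℚ) ^ c) • B)) := by rw [hτB, h6, h1]
    _ = ((j : ℚ) * (((j : ℚ) ^ (n + 1))⁻¹ * M * (j : ℚ) ^ c)) •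
          (scal PX (j : ℚ) A * B) := by
        rw [smul_mul_smul_comm, smul_smul]
    _ = ((M : ℚ) * (j : ℚ) ^ ((c : ℤ) - n)) • (scal PX (j : ℚ) A * B) := by
        congr 1
        rw [zpow_sub₀ hj0, zpow_natCast, zpow_natCast, pow_succ]
        field_simp
    _ = ((M : ℚ) * (j : ℚ) ^ ((c : ℤ) - n)) • scal PX (j : ℚ) τ * scal PX (j : ℚ) B * B := by
        rw [← hτB, map_mul, smul_mul_assoc, smul_mul_assoc]

include hKX hKY hdX hdY in
/-- **Algebraic Grothendieck–Riemann–Roch**. -/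
theorem grr_alg (c n : ℕ)
    (hf : ∀ (k : ℕ) (x : KX), x ∈ gammaFiltration PX k →
      f x ∈ QF PY ((k : ℤ) + ((c : ℤ) - n)).toNat)
    (e e' u v : KX) (hv : PX.IsLine v) (huv : u * v = 1)
    (he : (e ∈ PX.pos ∧ PX.aug e = c ∧ e' * LambdaOps.lam c e = LambdaOps.lam (c - 1) e) ∨
      (c = 0 ∧ e = 0 ∧ e' = 0)) (j : ℕ) (hj : 2 ≤ j) (w₀ : KX) (M : ℕ) (hM : 1 ≤ M)
    (hw : w₀ * KRR.bott PX j (((n + 1 : ℕ) : KX) * v) = (M : KX))
    (hRR : ∀ x : KX, (M : ℤ) • ((1 : ℚ) ⊗ₜ[ℤ] adams PY j (f x)) =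
      (1 : ℚ) ⊗ₜ[ℤ] f (((j : KX) * w₀) * (KRR.bott PX j e * adams PX j x))) :
    ∃ fG : Gr PX →+ Gr PY, IsGrPush PX PY f ((c : ℤ) - n) fG ∧
      ∀ x : KX, chK PY dY (f x) =
        fG (tdK PX dX (((n + 1 : ℕ) : KX) * u - 1 - e') * chK PX dX x) := by
  refine abstract_grr hKX hKY hdX hdY f ((c : ℤ) - n) hf j hj (((j : KX) * w₀) * KRR.bott PX j e)
    M hM ?_ _ (degProj_zero_tdK PX _) (multiplier hKX hdX c n e e' u v hv huv he j hj w₀ M hw)
  intro x
  rw [hRR x, mul_assoc ((j : KX) * w₀)]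

end main

end Groth.Agent.Krr.H462.GRRMain
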