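import Groth.Agent.Krr.H500.GrChern

/-!
# Graded maps out of `ℚGr K`; degree projections; existence of the graded push-forward

* `lift`: a family of additive maps on the rational filtration steps, vanishing on the next step,
  induces a `ℚ`-linear map out of `KGr.Gr P`, with `lift_grK`;
* `degProj P n`: the projection of `ℚGr K` onto its degree `n` part; `degProj_grK`, `degProj_mul`,
  `sum_degProj`;
* `scal P c`: the ring endomorphism multiplying by `c ^ n` in degree `n`;
* `exists_isGrPush`: the graded map of degree `δ` induced by `f : KX →+ KY` with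
  `f (ℚF^k) ⊆ ℚF^{k + δ}`.
-/

set_option autoImplicit false
universe v w

open scoped TensorProduct
open LaurentPolynomial LambdaRing KGr

namespace Groth.Agent.Krr.H462.GrMap

open Groth.Agent.Books.Lambda1
open Groth.Agent.Books.Lambda2 hiding T
open Groth.Agent.Krr.H500.GrK
open Groth.Agent.Krr.H500.GrChern

section lift

variable {K : Type v} [CommRing K] [LambdaRing.LambdaOps K] (P : LambdaRing.PosStructure K)
variable {V : Type w} [AddCommGroup V]

/-- A compatible family of functions on the rational gamma filtration: `g n` is additive on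
`F^n` and vanishes on `F^{n+1}` (`n : ℤ`). -/
structure Fam (g : ℤ → K → V) : Prop where
  add : ∀ (n : ℤ) (x y : K), x ∈ gammaFiltration P n.toNat → y ∈ gammaFiltration P n.toNat →
    g n (x + y) = g n x + g n y
  zero : ∀ (n : ℤ) (x : K), x ∈ gammaFiltration P (n + 1).toNat → g n x = 0

variable {P}

lemma Fam.map_zero {g : ℤ → K → V} (hg : Fam P g) (n : ℤ) : g n 0 = 0 :=
  hg.zero n 0 (AddSubgroup.zero_mem _)

/-- The map on the Rees ring. -/
noncomputable def reesMap {g : ℤ → K → V} (hg : Fam P g) : rees P →+ V where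
  toFun p := p.1.coeff.sum fun a x => g (-a) x
  map_zero' := by
    change Finsupp.sum (0 : ℤ →₀ K) _ = 0
    simp
  map_add' p q := by
    classical
    change Finsupp.sum (p.1 + q.1).coeff _ = _
    rw [AddMonoidAlgebra.coeff_add]
    have h1 : ∀ r : ℤ →₀ K, ∀ s : Finset ℤ, r.support ⊆ s →
        r.sum (fun a x => g (-a) x) = ∑ a ∈ s, g (-a) (r a) := by
      intro r s hs
      rw [Finsupp.sum_of_support_subset _ hs]
      intro i _
      exact hg.map_zero _
    rw [h1 _ (p.1.coeff.support ∪ q.1.coeff.support) Finsupp.support_add,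
      h1 _ (p.1.coeff.support ∪ q.1.coeff.support) Finset.subset_union_left,
      h1 _ (p.1.coeff.support ∪ q.1.coeff.support) Finset.subset_union_right,
      ← Finset.sum_add_distrib]
    refine Finset.sum_congr rfl fun a _ => ?_
    rw [Finsupp.add_apply]
    have hp := (mem_rees_iff_coeff P).1 p.2 (-a)
    have hq := (mem_rees_iff_coeff P).1 q.2 (-a)
    rw [neg_neg] at hp hq
    exact hg.add _ _ _ hp hq

lemma reesMap_monomial {g : ℤ → K → V} (hg : Fam P g) {n : ℤ} {x : K}
    (hx : C x * T (-n) ∈ rees P) : reesMap hg ⟨C x * T (-n), hx⟩ = g n x := by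
  change Finsupp.sum (C x * T (-n) : LaurentPolynomial K).coeff (fun a x => g (-a) x) = _
  rw [← single_eq_C_mul_T]
  change Finsupp.sum (Finsupp.single (-n) x) (fun a x => g (-a) x) = _
  have h := Finsupp.sum_single_index (a := -n) (b := x) (h := fun a x => g (-a) x)
    (hg.map_zero (-(-n)))
  rw [h, neg_neg]

omit [LambdaOps K] in
lemma coeff_T_one_mul (p : LaurentPolynomial K) (m : ℤ) :
    (p * T 1).coeff m = p.coeff (m - 1) := by
  have h : (T 1 : LaurentPolynomial K) = AddMonoidAlgebra.single (1 : ℤ) (1 : K) := rfl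
  rw [h, AddMonoidAlgebra.coeff_mul_single_apply, mul_one]
  rfl

lemma reesMap_mul_tGen {g : ℤ → K → V} (hg : Fam P g) (p : rees P) :
    reesMap hg (p * tGen P) = 0 := by
  change Finsupp.sum (p.1 * T 1 : LaurentPolynomial K).coeff (fun a x => g (-a) x) = 0
  refine Finset.sum_eq_zero fun a _ => ?_
  dsimp only
  rw [coeff_T_one_mul]
  apply hg.zero
  have hp := (mem_rees_iff_coeff P).1 p.2 (-a + 1)
  have h2 : -(-a + 1) = a - 1 := by ring
  rwa [h2] at hp

/-- The map on `Gr K`. -/
noncomputable def grZMap {g : ℤ → K → V} (hg : Fam P g) : GrZ P →+ V :=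
  QuotientAddGroup.lift (Ideal.span {tGen P}).toAddSubgroup (reesMap hg) (by
    intro p hp
    obtain ⟨q, rfl⟩ := Ideal.mem_span_singleton'.1 hp
    exact reesMap_mul_tGen hg q)

lemma grZMap_mk {g : ℤ → K → V} (hg : Fam P g) (p : rees P) :
    grZMap hg (Ideal.Quotient.mk (Ideal.span {tGen P}) p) = reesMap hg p := rfl

variable [Module ℚ V]

/-- The bilinear map underlying `lift`. -/
noncomputable def bil {g : ℤ → K → V} (hg : Fam P g) : ℚ →ₗ[ℤ] GrZ P →ₗ[ℤ] V :=
  LinearMap.mk₂ ℤ (fun q z => q • grZMap hg z) (fun a b z => add_smul a b _)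
    (fun c a z => by rw [smul_assoc]) (fun a z w => by rw [map_add, smul_add])
    (fun c a z => by rw [map_zsmul, smul_comm])

/-- The `ℚ`-linear map out of `ℚGr K` induced by a compatible family. -/
noncomputable def lift {g : ℤ → K → V} (hg : Fam P g) : Gr P →ₗ[ℚ] V :=
  (TensorProduct.lift (bil hg)).toAddMonoidHom.toRatLinearMap

lemma lift_tmul {g : ℤ → K → V} (hg : Fam P g) (q : ℚ) (z : GrZ P) :
    lift hg (q ⊗ₜ[ℤ] z) = q • grZMap hg z := rfl

lemma lift_grK {g : ℤ → K → V} (hg : Fam P g) {n : ℤ} {x : K}
    (hx : x ∈ gammaFiltration P n.toNat) : lift hg (grK P n x) = g n x := by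
  rw [grK_eq_of_mem P hx, lift_tmul, one_smul, cls_apply, grZMap_mk, reesMap_monomial]

end lift

section span

variable {K : Type v} [CommRing K] [LambdaRing.LambdaOps K] {P : LambdaRing.PosStructure K}

/-- Every element of the Rees ring is the sum of its monomials. -/
lemma rees_eq_sum (p : rees P) :
    p = ∑ a ∈ p.1.coeff.support, (⟨C (p.1.coeff a) * T a, by
      have := (mem_rees_iff_coeff P).1 p.2 (-a)
      rw [neg_neg] at this
      have h2 := monomial_mem_rees P this
      rwa [neg_neg] at h2⟩ : rees P) := by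
  apply Subtype.ext
  rw [AddSubmonoidClass.coe_finsetSum]
  ext m
  rw [AddMonoidAlgebra.coeff_sum, Finsupp.finsetSum_apply]
  simp only [coeff_C_mul_T]
  rw [Finset.sum_ite_eq']
  split_ifs with h'
  · rfl
  · simpa using h'

/-- Induction principle: `ℚGr K` is spanned by the classes `[x]_n`, `x ∈ F^n`, `n ≥ 0`. -/
lemma gr_induction {C' : Gr P → Prop} (h0 : C' 0) (hadd : ∀ a b, C' a → C' b → C' (a + b))
    (hcls : ∀ (q : ℚ) (n : ℕ) (x : K), x ∈ gammaFiltration P n → C' (q • grK P (n : ℤ) x))
    (z : Gr P) : C' z := by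
  induction z using TensorProduct.induction_on with
  | zero => exact h0
  | add a b ha hb => exact hadd a b ha hb
  | tmul q z =>
    obtain ⟨p, rfl⟩ := Ideal.Quotient.mk_surjective z
    rw [rees_eq_sum p, map_sum, TensorProduct.tmul_sum]
    have : ∀ s : Finset ℤ, ∀ f : ℤ → Gr P, (∀ i ∈ s, C' (f i)) → C' (∑ i ∈ s, f i) := by
      classical
      intro s f
      induction s using Finset.induction_on with
      | empty => intro _; simpa using h0
      | insert a s ha ih =>
        intro h
        rw [Finset.sum_insert ha]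
        exact hadd _ _ (h a (Finset.mem_insert_self _ _))
          (ih fun i hi => h i (Finset.mem_insert_of_mem hi))
    apply this
    intro a _
    have hm := (mem_rees_iff_coeff P).1 p.2 (-a)
    rw [neg_neg] at hm
    set x := p.1.coeff a with hx
    have hm' : x ∈ gammaFiltration P (-a).toNat := hm
    have h1 : (q ⊗ₜ[ℤ] (Ideal.Quotient.mk (Ideal.span {tGen P}))
        (⟨C x * T a, by
          have h2 := monomial_mem_rees P hm'
          rwa [neg_neg] at h2⟩ : rees P) : Gr P) = q • grK P (-a) x := by
      rw [grK_eq_of_mem P hm', TensorProduct.smul_tmul', smul_eq_mul, mul_one, cls_apply]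
      congr 3
      rw [neg_neg]
    rw [h1]
    rcases le_or_gt 0 (-a) with hn | hn
    · obtain ⟨k, hk⟩ := Int.eq_ofNat_of_zero_le hn
      rw [hk] at hm' ⊢
      exact hcls q k x (by simpa using hm')
    · have h3 : grK P (-a) x = 0 := by
        apply grK_eq_zero_of_mem
        have : (-a + 1).toNat = 0 := by omega
        rw [this]
        exact mem_QF_zero x
      rw [h3, smul_zero]
      exact h0

end span

section degProj

variable {K : Type v} [CommRing K] [LambdaRing.LambdaOps K] (P : LambdaRing.PosStructure K)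

lemma fam_degProj (n : ℤ) : Fam P (fun m x => if m = n then grK P m x else 0) := by
  constructor
  · intro m x y hx hy
    split_ifs
    · exact grK_add P (mem_QF_of_mem hx) (mem_QF_of_mem hy)
    · rw [add_zero]
  · intro m x hx
    split_ifs
    · exact grK_eq_zero_of_mem P (mem_QF_of_mem hx)
    · rfl

/-- The projection of `ℚGr K` onto its part of degree `n`. -/
noncomputable def degProj (n : ℤ) : Gr P →ₗ[ℚ] Gr P := lift (fam_degProj P n)

variable {P}

/-- A linear map computed on the filtration steps is computed on the rational filtration steps. -/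
lemma eq_on_QF {V : Type*} [AddCommGroup V] [Module ℚ V] (F G : Gr P →ₗ[ℚ] V) {m : ℤ}
    (h : ∀ x ∈ gammaFiltration P m.toNat, F (grK P m x) = G (grK P m x)) {x : K}
    (hx : x ∈ QF P m.toNat) : F (grK P m x) = G (grK P m x) := by
  obtain ⟨N, hN, hx⟩ := hx
  have h1 := h _ hx
  rw [grK_natCast_mul, map_nsmul, map_nsmul] at h1
  have h2 : (N : ℚ) • F (grK P m x) = (N : ℚ) • G (grK P m x) := by
    rw [Nat.cast_smul_eq_nsmul, Nat.cast_smul_eq_nsmul, h1]
  have hN0 : (N : ℚ) ≠ 0 := by positivity
  exact smul_right_injective V hN0 h2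

lemma degProj_grK_self {m : ℤ} {x : K} (hx : x ∈ QF P m.toNat) :
    degProj P m (grK P m x) = grK P m x := by
  refine eq_on_QF (degProj P m) LinearMap.id (fun x hx => ?_) hx
  rw [degProj, lift_grK _ hx, if_pos rfl]
  rfl

lemma degProj_grK_of_ne {m n : ℤ} (h : m ≠ n) {x : K} (hx : x ∈ QF P m.toNat) :
    degProj P n (grK P m x) = 0 := by
  refine eq_on_QF (degProj P n) (0 : Gr P →ₗ[ℚ] Gr P) (fun x hx => ?_) hx
  rw [degProj, lift_grK _ hx, if_neg h]
  rfl

lemma degProj_grK (m n : ℤ) {x : K} (hx : x ∈ QF P m.toNat) :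
    degProj P n (grK P m x) = if m = n then grK P m x else 0 := by
  split_ifs with h
  · subst h
    exact degProj_grK_self hx
  · exact degProj_grK_of_ne h hx

/-- Unconditional form of `grK_zero` for negative degrees. -/
lemma grK_neg_degree {n : ℤ} (hn : n < 0) (x : K) : grK P n x = 0 := by
  apply grK_eq_zero_of_mem
  have : (n + 1).toNat = 0 := by omega
  rw [this]
  exact mem_QF_zero x

/-- Two linear maps out of `ℚGr K` agreeing on the classes `[x]_n`, `x ∈ F^n`, are equal. -/
lemma gr_ext {V : Type*} [AddCommGroup V] [Module ℚ V] {F G : Gr P →ₗ[ℚ] V}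
    (h : ∀ (n : ℕ) (x : K), x ∈ gammaFiltration P n → F (grK P (n : ℤ) x) = G (grK P (n : ℤ) x)) :
    F = G := by
  apply LinearMap.ext
  intro z
  induction z using gr_induction with
  | h0 => rw [map_zero, map_zero]
  | hadd a b ha hb => rw [map_add, map_add, ha, hb]
  | hcls q n x hx => rw [map_smul, map_smul, h n x hx]

lemma degProj_degProj (m n : ℤ) (z : Gr P) :
    degProj P n (degProj P m z) = if m = n then degProj P m z else 0 := by
  induction z using gr_induction with
  | h0 => simp
  | hadd a b ha hb =>
    rw [map_add, map_add, ha, hb]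
    split_ifs <;> simp
  | hcls q k x hx =>
    have hx' : x ∈ QF P (k : ℤ).toNat := mem_QF_of_mem (by simpa using hx)
    rw [map_smul, map_smul, degProj_grK _ _ hx']
    split_ifs with h1 h2 h2
    · rw [degProj_grK _ _ hx', if_pos (h1.trans h2)]
    · rw [degProj_grK _ _ hx', if_neg (by rw [h1]; exact h2), smul_zero]
    · rw [map_zero]
    · rw [map_zero, smul_zero]

lemma degProj_self (n : ℤ) (z : Gr P) : degProj P n (degProj P n z) = degProj P n z := by
  rw [degProj_degProj, if_pos rfl]

lemma degProj_of_ne {m n : ℤ} (h : m ≠ n) (z : Gr P) : degProj P n (degProj P m z) = 0 := by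
  rw [degProj_degProj, if_neg h]

lemma degProj_neg {n : ℤ} (hn : n < 0) (z : Gr P) : degProj P n z = 0 := by
  have : degProj P n = 0 := by
    apply gr_ext
    intro m x hx
    rw [degProj_grK_of_ne (by omega) (mem_QF_of_mem (by simpa using hx))]
    rfl
  rw [this]
  rfl

/-- If `F^{d+1} = 0`, every element is the sum of its components in degrees `0, …, d`. -/
lemma sum_degProj {d : ℕ} (hd : gammaFiltration P (d + 1) = ⊥) (z : Gr P) :
    ∑ n ∈ Finset.range (d + 1), degProj P (n : ℤ) z = z := by
  induction z using gr_induction with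
  | h0 => simp
  | hadd a b ha hb =>
    simp only [map_add, Finset.sum_add_distrib, ha, hb]
  | hcls q k x hx =>
    have hx' : x ∈ QF P (k : ℤ).toNat := mem_QF_of_mem (by simpa using hx)
    simp only [map_smul]
    rw [← Finset.smul_sum]
    congr 1
    by_cases hk : k < d + 1
    · rw [Finset.sum_eq_single k]
      · exact degProj_grK_self hx'
      · intro b _ hb
        exact degProj_grK_of_ne (by exact_mod_cast hb.symm) hx'
      · intro h
        exact absurd (Finset.mem_range.2 hk) h
    · have hx0 : x = 0 := by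
        have h1 : x ∈ gammaFiltration P (d + 1) := filtration_anti P (by omega) hx
        rw [hd] at h1
        simpa using h1
      rw [hx0, grK_zero]
      simp

/-- If `F^{d+1} = 0`, there is nothing in degrees above `d`. -/
lemma degProj_eq_zero_of_lt {d : ℕ} (hd : gammaFiltration P (d + 1) = ⊥) {n : ℤ}
    (hn : (d : ℤ) < n) (z : Gr P) : degProj P n z = 0 := by
  rw [← sum_degProj hd z, map_sum]
  refine Finset.sum_eq_zero fun i hi => ?_
  rw [degProj_of_ne]
  have := Finset.mem_range.1 hi
  omega

lemma ext_degProj {d : ℕ} (hd : gammaFiltration P (d + 1) = ⊥) {z w : Gr P}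
    (h : ∀ n : ℕ, n ≤ d → degProj P (n : ℤ) z = degProj P (n : ℤ) w) : z = w := by
  rw [← sum_degProj hd z, ← sum_degProj hd w]
  refine Finset.sum_congr rfl fun n hn => h n ?_
  have := Finset.mem_range.1 hn
  omega

/-- The degree `n` component of a product. -/
lemma degProj_mul (n : ℕ) (a b : Gr P) :
    degProj P (n : ℤ) (a * b) =
      ∑ p ∈ Finset.antidiagonal n, degProj P (p.1 : ℤ) a * degProj P (p.2 : ℤ) b := by
  induction a using gr_induction with
  | h0 => simp
  | hadd a a' ha ha' =>
    simp only [add_mul, map_add, Finset.sum_add_distrib, ha, ha']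
  | hcls q k x hx =>
    induction b using gr_induction with
    | h0 => simp
    | hadd b b' hb hb' =>
      simp only [mul_add, map_add, Finset.sum_add_distrib, hb, hb']
    | hcls r l y hy =>
      have hx' : x ∈ QF P (k : ℤ).toNat := mem_QF_of_mem (by simpa using hx)
      have hy' : y ∈ QF P (l : ℤ).toNat := mem_QF_of_mem (by simpa using hy)
      have hxy : x * y ∈ QF P ((k : ℤ) + l).toNat := by
        have : ((k : ℤ) + l).toNat = k + l := by omega
        rw [this]
        exact mul_mem_QF (mem_QF_of_mem hx) (mem_QF_of_mem hy)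
      rw [smul_mul_smul_comm, grK_mul' P hx' hy', map_smul]
      simp only [map_smul]
      rw [degProj_grK _ _ hxy]
      split_ifs with h
      · rw [Finset.sum_eq_single (k, l)]
        · rw [degProj_grK_self hx', degProj_grK_self hy', smul_mul_smul_comm, grK_mul' P hx' hy']
        · rintro ⟨a, b⟩ hab hne
          rw [Finset.mem_antidiagonal] at hab
          dsimp only at hab ⊢
          have : k ≠ a ∨ l ≠ b := by
            by_contra hcon
            push Not at hcon
            exact hne (by rw [hcon.1, hcon.2])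
          rcases this with h1 | h1
          · rw [degProj_grK_of_ne (by exact_mod_cast h1) hx', smul_zero, zero_mul]
          · rw [degProj_grK_of_ne (by exact_mod_cast h1) hy', smul_zero, mul_zero]
        · intro hab
          exact absurd (Finset.mem_antidiagonal.2 (by dsimp only; omega)) hab
      · rw [smul_zero]
        symm
        refine Finset.sum_eq_zero ?_
        rintro ⟨a, b⟩ hab
        rw [Finset.mem_antidiagonal] at hab
        dsimp only at hab ⊢
        have : k ≠ a ∨ l ≠ b := by
          by_contra hcon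
          push Not at hcon
          omega
        rcases this with h1 | h1
        · rw [degProj_grK_of_ne (by exact_mod_cast h1) hx', smul_zero, zero_mul]
        · rw [degProj_grK_of_ne (by exact_mod_cast h1) hy', smul_zero, mul_zero]

lemma degProj_one (n : ℤ) : degProj P n (1 : Gr P) = if n = 0 then 1 else 0 := by
  rw [← grK_zero_one, degProj_grK _ _ (mem_QF_zero _)]
  simp only [eq_comm (a := (0 : ℤ))]

end degProj

section scal

variable {K : Type v} [CommRing K] [LambdaRing.LambdaOps K] (P : LambdaRing.PosStructure K)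

lemma fam_scal (c : ℚ) : Fam P (fun m x => c ^ m.toNat • grK P m x) := by
  constructor
  · intro m x y hx hy
    rw [grK_add P (mem_QF_of_mem hx) (mem_QF_of_mem hy), smul_add]
  · intro m x hx
    rw [grK_eq_zero_of_mem P (mem_QF_of_mem hx), smul_zero]

/-- The linear map multiplying by `c ^ n` in degree `n`. -/
noncomputable def scalLin (c : ℚ) : Gr P →ₗ[ℚ] Gr P := lift (fam_scal P c)

variable {P}

lemma scalLin_grK (c : ℚ) {m : ℤ} {x : K} (hx : x ∈ QF P m.toNat) :
    scalLin P c (grK P m x) = c ^ m.toNat • grK P m x := by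
  refine eq_on_QF (scalLin P c) (c ^ m.toNat • LinearMap.id) (fun x hx => ?_) hx
  rw [scalLin, lift_grK _ hx]
  rfl

lemma scalLin_one (c : ℚ) : scalLin P c 1 = 1 := by
  rw [← grK_zero_one, scalLin_grK c (mem_QF_zero _)]
  simp

lemma scalLin_mul (c : ℚ) (a b : Gr P) : scalLin P c (a * b) = scalLin P c a * scalLin P c b := by
  induction a using gr_induction with
  | h0 => simp
  | hadd a a' ha ha' => simp only [add_mul, map_add, ha, ha']
  | hcls q k x hx =>
    induction b using gr_induction with
    | h0 => simp
    | hadd b b' hb hb' => simp only [mul_add, map_add, hb, hb']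
    | hcls r l y hy =>
      have hx' : x ∈ QF P (k : ℤ).toNat := mem_QF_of_mem (by simpa using hx)
      have hy' : y ∈ QF P (l : ℤ).toNat := mem_QF_of_mem (by simpa using hy)
      have hxy : x * y ∈ QF P ((k : ℤ) + l).toNat := by
        have : ((k : ℤ) + l).toNat = k + l := by omega
        rw [this]
        exact mul_mem_QF (mem_QF_of_mem hx) (mem_QF_of_mem hy)
      rw [smul_mul_smul_comm, grK_mul' P hx' hy', map_smul, map_smul, map_smul,
        scalLin_grK c hxy, scalLin_grK c hx', scalLin_grK c hy', smul_mul_smul_comm,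
        smul_mul_smul_comm, grK_mul' P hx' hy']
      have h1 : ((k : ℤ) + l).toNat = k + l := by omega
      rw [h1, Int.toNat_natCast, Int.toNat_natCast, pow_add, smul_smul]

variable (P) in
/-- The ring endomorphism of `ℚGr K` multiplying by `c ^ n` in degree `n`. -/
noncomputable def scal (c : ℚ) : Gr P →ₐ[ℚ] Gr P :=
  AlgHom.ofLinearMap (scalLin P c) (scalLin_one c) (scalLin_mul c)

lemma scal_grK (c : ℚ) {m : ℤ} {x : K} (hx : x ∈ QF P m.toNat) :
    scal P c (grK P m x) = c ^ m.toNat • grK P m x := scalLin_grK c hx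

lemma degProj_scal (c : ℚ) (n : ℤ) (z : Gr P) :
    degProj P n (scal P c z) = c ^ n.toNat • degProj P n z := by
  induction z using gr_induction with
  | h0 => simp
  | hadd a b ha hb => rw [map_add, map_add, map_add, ha, hb, smul_add]
  | hcls q k x hx =>
    have hx' : x ∈ QF P (k : ℤ).toNat := mem_QF_of_mem (by simpa using hx)
    rw [map_smul, scal_grK c hx', map_smul, map_smul, map_smul, degProj_grK _ _ hx']
    split_ifs with h
    · subst h
      rw [smul_comm]
    · simp

lemma scal_degProj (c : ℚ) (n : ℤ) (z : Gr P) :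
    scal P c (degProj P n z) = c ^ n.toNat • degProj P n z := by
  induction z using gr_induction with
  | h0 => simp
  | hadd a b ha hb => rw [map_add, map_add, ha, hb, smul_add]
  | hcls q k x hx =>
    have hx' : x ∈ QF P (k : ℤ).toNat := mem_QF_of_mem (by simpa using hx)
    rw [map_smul, map_smul, degProj_grK _ _ hx']
    split_ifs with h
    · subst h
      rw [scal_grK c hx', smul_comm]
    · simp

end scal

section push

variable {KX KY : Type v} [CommRing KX] [LambdaRing.LambdaOps KX] [CommRing KY]
  [LambdaRing.LambdaOps KY] {PX : LambdaRing.PosStructure KX} {PY : LambdaRing.PosStructure KY}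

lemma fam_push (f : KX →+ KY) (δ : ℤ)
    (hf : ∀ (k : ℕ) (x : KX), x ∈ gammaFiltration PX k → f x ∈ QF PY ((k : ℤ) + δ).toNat) :
    Fam PX (fun m x => if 0 ≤ m then grK PY (m + δ) (f x) else 0) := by
  have hf' : ∀ (m : ℤ), 0 ≤ m → ∀ (x : KX), x ∈ gammaFiltration PX m.toNat →
      f x ∈ QF PY (m + δ).toNat := by
    intro m hm x hx
    have := hf _ x hx
    rwa [Int.toNat_of_nonneg hm] at this
  constructor
  · intro m x y hx hy
    split_ifs with h
    · rw [map_add, grK_add PY (hf' m h x hx) (hf' m h y hy)]
    · rw [add_zero]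
  · intro m x hx
    split_ifs with h
    · apply grK_eq_zero_of_mem
      have := hf' (m + 1) (by omega) x hx
      have h2 : m + δ + 1 = m + 1 + δ := by ring
      rwa [h2]
    · rfl

/-- The graded map of degree `δ` induced by `f`. -/
theorem exists_isGrPush (f : KX →+ KY) (δ : ℤ)
    (hf : ∀ (k : ℕ) (x : KX), x ∈ gammaFiltration PX k → f x ∈ QF PY ((k : ℤ) + δ).toNat) :
    ∃ fG : Gr PX →ₗ[ℚ] Gr PY, IsGrPush PX PY f δ fG.toAddMonoidHom := by
  refine ⟨lift (fam_push f δ hf), ?_⟩
  intro n x hx
  change lift (fam_push f δ hf) (grK PX (n : ℤ) x) = _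
  rw [lift_grK _ (by simpa using hx), if_pos (by omega)]

end push

end Groth.Agent.Krr.H462.GrMap
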